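import Groth.Agent.Lib.Lattice26.DetCokerGlobal
import Groth.Agent.Lib.Lattice26.Det
import Mathlib.RingTheory.Length
import Mathlib.Algebra.Module.Torsion.Basic

/-! # The determinant index of a module against a basis of its generic fibre -/

set_option autoImplicit false
set_option linter.style.haveILetI false
universe u

open CategoryTheory

namespace Groth.Agent.DetDiv26

open Groth.Agent.Lattice26

variable {A : Type u} [CommRing A] [IsDomain A] [IsNoetherianRing A] (hA : ringKrullDim A ≤ 1)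

/-- The length of a module, as an integer. -/
noncomputable def len (A : Type u) [CommRing A] (Q : Type u) [AddCommGroup Q] [Module A Q] : ℤ :=
  ((Module.length A Q).toNat : ℤ)

include hA in
theorem length_lt_top (Q : Type u) [AddCommGroup Q] [Module A Q] [Module.Finite A Q]
    (h : ∀ x : Q, ∃ t : A, t ≠ 0 ∧ t • x = 0) : Module.length A Q < ⊤ := by
  classical
  obtain ⟨n, g, hg⟩ := Module.Finite.exists_fin (R := A) (M := Q)
  choose t ht htx using fun i => h (g i)
  let s := ∏ i, t i
  have hs : s ≠ 0 := Finset.prod_ne_zero_iff.2 fun i _ => ht i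
  have hsg : ∀ i, s • g i = 0 := fun i => by
    obtain ⟨c, hc⟩ : t i ∣ s := Finset.dvd_prod_of_mem _ (Finset.mem_univ i)
    rw [hc, mul_comm, mul_smul, htx, smul_zero]
  let f : (Fin n → A ⧸ Ideal.span {s}) →ₗ[A] Q := LinearMap.lsum A (fun _ : Fin n => A ⧸ Ideal.span {s}) A
    (fun i => Submodule.liftQ _ (LinearMap.toSpanSingleton A Q (g i)) (by
      rw [Ideal.span_le]
      rintro _ rfl
      exact hsg i))
  have hf : Function.Surjective f := by
    rw [← LinearMap.range_eq_top, eq_top_iff, ← hg, Submodule.span_le]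
    rintro _ ⟨i, rfl⟩
    refine ⟨Pi.single i (Submodule.Quotient.mk 1), ?_⟩
    show f _ = _
    simp only [f]
    rw [LinearMap.lsum_apply, LinearMap.sum_apply, Finset.sum_eq_single i
      (fun l _ hl => by simp [Pi.single_eq_of_ne hl]) (fun hi => absurd (Finset.mem_univ i) hi)]
    simp only [LinearMap.comp_apply, LinearMap.proj_apply, Pi.single_eq_same]
    exact one_smul A (g i)
  refine (Module.length_le_of_surjective f hf).trans_lt ?_
  rw [Module.length_pi_of_fintype]
  exact WithTop.sum_lt_top.2 fun _ _ => (ordFrac_algebraMap (K := FractionRing A) hA hs).2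

omit [IsDomain A] [IsNoetherianRing A] in
theorem len_add {P Q R : Type u} [AddCommGroup P] [Module A P] [AddCommGroup Q] [Module A Q] [AddCommGroup R]
    [Module A R] (i : P →ₗ[A] Q) (p : Q →ₗ[A] R) (hi : Function.Injective i) (hp : Function.Surjective p)
    (he : Function.Exact i p) (hQ : Module.length A Q < ⊤) : len A Q = len A P + len A R := by
  have h := Module.length_eq_add_of_exact i p hi hp he
  rw [h] at hQ
  obtain ⟨h1, h2⟩ := WithTop.add_lt_top.1 hQ
  simp only [len, h]
  rw [ENat.toNat_add h1.ne h2.ne]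
  push_cast
  ring

variable {K : Type u} [Field K] [Algebra A K] [IsFractionRing A K]
  {M : Type u} [AddCommGroup M] [Module A M] [Module.Finite A M]
  {V : Type u} [AddCommGroup V] [Module K V] [Module A V] [IsScalarTower A K V]
  (ι : M →ₗ[A] V) [IsLocalizedModule (nonZeroDivisors A) ι]

variable {r : ℕ}

/-- The map of a basis. -/
noncomputable def bmap (e : Module.Basis (Fin r) K V) : (Fin r → A) →ₗ[A] V :=
  (e.equivFun.symm.toLinearMap.restrictScalars A).comp (LinearMap.compLeft (Algebra.linearMap A K) (Fin r))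

omit [IsDomain A] [IsNoetherianRing A] [IsFractionRing A K] in
theorem bmap_apply (e : Module.Basis (Fin r) K V) (x : Fin r → A) :
    bmap e x = ∑ i, algebraMap A K (x i) • e i := by
  simp [bmap, Module.Basis.equivFun_symm_apply]

omit [IsDomain A] [IsNoetherianRing A] in
theorem bmap_injective (e : Module.Basis (Fin r) K V) : Function.Injective (bmap (A := A) e) := fun x y h =>
  funext fun i => IsFractionRing.injective A K (congrFun (e.equivFun.symm.injective h) i)

/-- `φ` represents `c` times the basis. -/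
def Rep (e : Module.Basis (Fin r) K V) (φ : (Fin r → A) →ₗ[A] M) (c : A) : Prop :=
  c ≠ 0 ∧ ι.comp φ = c • bmap e

omit [IsDomain A] [IsNoetherianRing A] [Module.Finite A M] [IsLocalizedModule (nonZeroDivisors A) ι] in
theorem rep_injective [IsDomain A] {e : Module.Basis (Fin r) K V} {φ : (Fin r → A) →ₗ[A] M} {c : A}
    (h : Rep ι e φ c) : Function.Injective φ := by
  intro x y hxy
  refine bmap_injective (A := A) e ?_
  have h1 : c • bmap e x = c • bmap e y := by
    rw [← LinearMap.smul_apply, ← LinearMap.smul_apply, ← h.2, LinearMap.comp_apply, LinearMap.comp_apply, hxy]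
  rw [← algebraMap_smul K c, ← algebraMap_smul K c] at h1
  exact smul_right_injective V ((map_ne_zero_iff _ (IsFractionRing.injective A K)).2 h.1) h1

omit [Module.Finite A M] [IsNoetherianRing A] in
theorem exists_rep (e : Module.Basis (Fin r) K V) : ∃ φ c, Rep ι e φ c := by
  classical
  choose y hy using fun i => IsLocalizedModule.surj (nonZeroDivisors A) ι (e i)
  have hy' : ∀ i, (((y i).2 : nonZeroDivisors A) : A) • e i = ι (y i).1 := hy
  let c : A := ∏ i, (((y i).2 : nonZeroDivisors A) : A)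
  have hc : c ≠ 0 := Finset.prod_ne_zero_iff.2 fun i _ => nonZeroDivisors.coe_ne_zero _
  choose d hd using fun i => Finset.dvd_prod_of_mem (fun j => (((y j).2 : nonZeroDivisors A) : A)) (Finset.mem_univ i)
  refine ⟨Fintype.linearCombination A fun i => d i • (y i).1, c, hc, LinearMap.ext fun x => ?_⟩
  rw [LinearMap.comp_apply, LinearMap.smul_apply, Fintype.linearCombination_apply, map_sum, bmap_apply, Finset.smul_sum]
  refine Finset.sum_congr rfl fun i _ => ?_
  rw [map_smul, map_smul, ← hy', algebraMap_smul, smul_smul, smul_smul, smul_smul]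
  congr 1
  rw [show c = ∏ j, (((y j).2 : nonZeroDivisors A) : A) from rfl, hd i]
  ring

omit [IsNoetherianRing A] [Module.Finite A M] in
theorem torsion_coker {e : Module.Basis (Fin r) K V} {φ : (Fin r → A) →ₗ[A] M} {c : A} (h : Rep ι e φ c)
    (z : M ⧸ LinearMap.range φ) : ∃ t : A, t ≠ 0 ∧ t • z = 0 := by
  classical
  obtain ⟨m, rfl⟩ := Submodule.Quotient.mk_surjective _ z
  obtain ⟨b, hb⟩ := IsLocalization.exist_integer_multiples_of_finite (nonZeroDivisors A)
    (fun i => e.equivFun (ι m) i)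
  choose x hx using hb
  have h1 : ((b : A) • ι m) = bmap e x := by
    refine e.equivFun.injective (funext fun i => ?_)
    rw [← algebraMap_smul K, map_smul, Pi.smul_apply, bmap_apply, ← Module.Basis.equivFun_symm_apply,
      LinearEquiv.apply_symm_apply, hx, smul_eq_mul, Algebra.smul_def]
  have h2 : ι ((c * (b : A)) • m) = ι (φ x) := by
    rw [map_smul, mul_smul, h1, ← LinearMap.smul_apply, ← h.2]; rfl
  obtain ⟨s, hs⟩ := (IsLocalizedModule.eq_iff_exists (nonZeroDivisors A) ι).1 h2
  refine ⟨(s : A) * (c * (b : A)), mul_ne_zero (nonZeroDivisors.coe_ne_zero _)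
    (mul_ne_zero h.1 (nonZeroDivisors.coe_ne_zero _)), ?_⟩
  rw [← Submodule.Quotient.mk_smul, Submodule.Quotient.mk_eq_zero, mul_smul]
  exact ⟨(s : A) • x, by rw [map_smul]; exact hs.symm⟩

/-- The index of the image of `φ`. -/
noncomputable def idx (φ : (Fin r → A) →ₗ[A] M) : ℤ := len A (M ⧸ LinearMap.range φ)

include hA in
theorem idx_comp {e : Module.Basis (Fin r) K V} {φ : (Fin r → A) →ₗ[A] M} {c : A} (h : Rep ι e φ c)
    {P : Matrix (Fin r) (Fin r) A} (hP : P.det ≠ 0) :
    idx (φ.comp (mulAct P A)) = idx φ + CycAlg.ordFrac A K (algebraMap A K P.det) := by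
  have hinj := rep_injective ι h
  have hfinP : Module.length A ((Fin r → A) ⧸ LinearMap.range (mulAct P A)) < ⊤ := by
    rw [length_coker_eq_det P (mem_nonZeroDivisors_of_ne_zero hP)]
    exact (ordFrac_algebraMap (K := K) hA hP).2
  let R2 := LinearMap.range (φ.comp (mulAct P A))
  have hle : R2 ≤ LinearMap.range φ := LinearMap.range_comp_le_range _ _
  let i : ((Fin r → A) ⧸ LinearMap.range (mulAct P A)) →ₗ[A] M ⧸ R2 :=
    Submodule.mapQ _ _ φ (by rintro _ ⟨x, rfl⟩; exact ⟨x, rfl⟩)
  let p : (M ⧸ R2) →ₗ[A] M ⧸ LinearMap.range φ :=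
    Submodule.mapQ _ _ LinearMap.id (by rw [Submodule.comap_id]; exact hle)
  have hi : Function.Injective i := by
    rw [injective_iff_map_eq_zero]
    intro z hz
    obtain ⟨x, rfl⟩ := Submodule.Quotient.mk_surjective _ z
    obtain ⟨w, hw⟩ := (Submodule.Quotient.mk_eq_zero R2).1 hz
    exact (Submodule.Quotient.mk_eq_zero _).2 ⟨w, hinj hw⟩
  have hp : Function.Surjective p := fun z => by
    obtain ⟨m, rfl⟩ := Submodule.Quotient.mk_surjective _ z
    exact ⟨Submodule.Quotient.mk m, rfl⟩
  have he : Function.Exact i p := by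
    intro z
    obtain ⟨m, rfl⟩ := Submodule.Quotient.mk_surjective _ z
    constructor
    · intro hm
      obtain ⟨x, hx⟩ := (Submodule.Quotient.mk_eq_zero _).1 hm
      exact ⟨Submodule.Quotient.mk x, congrArg Submodule.Quotient.mk hx⟩
    · rintro ⟨w, hw⟩
      obtain ⟨x, rfl⟩ := Submodule.Quotient.mk_surjective _ w
      rw [← hw]
      exact (Submodule.Quotient.mk_eq_zero _).2 ⟨x, rfl⟩
  have hQ : Module.length A (M ⧸ R2) < ⊤ := by
    rw [Module.length_eq_add_of_exact i p hi hp he]
    exact WithTop.add_lt_top.2 ⟨hfinP, length_lt_top hA _ (torsion_coker ι h)⟩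
  show len A (M ⧸ R2) = len A (M ⧸ LinearMap.range φ) + _
  rw [len_add i p hi hp he hQ, (ordFrac_algebraMap (K := K) hA hP).1, len,
    length_coker_eq_det P (mem_nonZeroDivisors_of_ne_zero hP)]
  ring

omit [IsDomain A] [IsNoetherianRing A] in
theorem mulAct_diagonal (c : A) :
    mulAct (Matrix.diagonal fun _ : Fin r => c) A = c • LinearMap.id := by
  ext x i
  simp [mulAct_apply, Matrix.diagonal_apply]

include hA in
theorem idx_smul {e : Module.Basis (Fin r) K V} {φ : (Fin r → A) →ₗ[A] M} {c : A} (h : Rep ι e φ c) {t : A}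
    (ht : t ≠ 0) : idx (t • φ) = idx φ + r * CycAlg.ordFrac A K (algebraMap A K t) := by
  classical
  have hdet : (Matrix.diagonal fun _ : Fin r => t).det = t ^ r := by simp
  have h1 := idx_comp hA ι h (P := Matrix.diagonal fun _ : Fin r => t) (by rw [hdet]; exact pow_ne_zero _ ht)
  rw [mulAct_diagonal, LinearMap.comp_smul, LinearMap.comp_id, hdet] at h1
  rw [h1]
  congr 1
  have : ∀ n : ℕ, CycAlg.ordFrac A K (algebraMap A K (t ^ n)) = n * CycAlg.ordFrac A K (algebraMap A K t) := by
    intro n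
    induction n with
    | zero =>
      have h0 := (ordFrac_algebraMap (K := K) hA (one_ne_zero (α := A))).1
      rw [pow_zero, h0, Ideal.span_singleton_one, Module.length_eq_zero]
      simp
    | succ n ih =>
      rw [pow_succ, map_mul, ordFrac_mul hA ((map_ne_zero_iff _ (IsFractionRing.injective A K)).2 (pow_ne_zero _ ht))
        ((map_ne_zero_iff _ (IsFractionRing.injective A K)).2 ht), ih]
      push_cast
      ring
  exact this r

include hA in
theorem idx_sub_eq {e : Module.Basis (Fin r) K V} {φ φ' : (Fin r → A) →ₗ[A] M} {c c' : A} (h : Rep ι e φ c)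
    (h' : Rep ι e φ' c') :
    idx φ - r * CycAlg.ordFrac A K (algebraMap A K c) = idx φ' - r * CycAlg.ordFrac A K (algebraMap A K c') := by
  classical
  have hker : ∀ i, ι ((c' • φ) (Pi.single i 1)) = ι ((c • φ') (Pi.single i 1)) := fun i => by
    simp only [LinearMap.smul_apply, map_smul]
    rw [← LinearMap.comp_apply ι φ, ← LinearMap.comp_apply ι φ', h.2, h'.2, LinearMap.smul_apply, LinearMap.smul_apply,
      smul_comm]
  choose s hs using fun i => (IsLocalizedModule.eq_iff_exists (nonZeroDivisors A) ι).1 (hker i)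
  let t : A := ∏ i, (s i : A)
  have ht : t ≠ 0 := Finset.prod_ne_zero_iff.2 fun i _ => nonZeroDivisors.coe_ne_zero _
  have heq : (t * c') • φ = (t * c) • φ' := by
    refine (Pi.basisFun A (Fin r)).ext fun i => ?_
    obtain ⟨d, hd⟩ := Finset.dvd_prod_of_mem (fun j => (s j : A)) (Finset.mem_univ i)
    rw [Pi.basisFun_apply, LinearMap.smul_apply, LinearMap.smul_apply, show t = (s i : A) * d from hd,
      mul_comm (s i : A) d, mul_assoc, mul_assoc, mul_smul d, mul_smul d, mul_smul, mul_smul]
    exact congrArg (d • ·) (hs i)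
  have h1 := idx_smul hA ι h (mul_ne_zero ht h'.1)
  have h2 := idx_smul hA ι h' (mul_ne_zero ht h.1)
  have hinj := IsFractionRing.injective A K
  rw [heq, h2, map_mul, map_mul, ordFrac_mul hA ((map_ne_zero_iff _ hinj).2 ht) ((map_ne_zero_iff _ hinj).2 h.1),
    ordFrac_mul hA ((map_ne_zero_iff _ hinj).2 ht) ((map_ne_zero_iff _ hinj).2 h'.1)] at h1
  linarith [h1]

/-- The index of the module against a basis. -/
noncomputable def nu (e : Module.Basis (Fin r) K V) : ℤ :=
  idx (exists_rep ι e).choose -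
    r * CycAlg.ordFrac A K (algebraMap A K (exists_rep ι e).choose_spec.choose)

include hA in
theorem nu_eq {e : Module.Basis (Fin r) K V} {φ : (Fin r → A) →ₗ[A] M} {c : A} (h : Rep ι e φ c) :
    nu ι e = idx φ - r * CycAlg.ordFrac A K (algebraMap A K c) :=
  idx_sub_eq hA ι (exists_rep ι e).choose_spec.choose_spec h

include hA in
theorem nu_change (e e' : Module.Basis (Fin r) K V) :
    nu ι e' = nu ι e + CycAlg.ordFrac A K (e.toMatrix e').det := by
  classical
  obtain ⟨φ, c, h⟩ := exists_rep ι e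
  obtain ⟨b, hb⟩ := IsLocalization.exist_integer_multiples_of_finite (nonZeroDivisors A)
    (fun q : Fin r × Fin r => e.toMatrix e' q.1 q.2)
  choose y hy using hb
  let P : Matrix (Fin r) (Fin r) A := Matrix.of fun i j => y (i, j)
  have hPK : P.map (algebraMap A K) = algebraMap A K (b : A) • e.toMatrix e' := by
    ext i j
    rw [Matrix.map_apply, Matrix.smul_apply, smul_eq_mul, ← Algebra.smul_def]
    exact hy (i, j)
  have hG : (e.toMatrix e').det ≠ 0 := by
    have := congrArg Matrix.det (e.toMatrix_mul_toMatrix_flip e')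
    rw [Matrix.det_mul, Matrix.det_one] at this
    exact left_ne_zero_of_mul_eq_one this
  have hbne : algebraMap A K (b : A) ≠ 0 :=
    (map_ne_zero_iff _ (IsFractionRing.injective A K)).2 (nonZeroDivisors.coe_ne_zero _)
  have hdetK : algebraMap A K P.det = algebraMap A K (b : A) ^ r * (e.toMatrix e').det := by
    rw [RingHom.map_det, RingHom.mapMatrix_apply, hPK, Matrix.det_smul, Fintype.card_fin]
  have hdet : P.det ≠ 0 := fun h0 => by
    rw [h0, map_zero] at hdetK
    exact mul_ne_zero (pow_ne_zero _ hbne) hG hdetK.symm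
  have h' : Rep ι e' (φ.comp (mulAct P A)) (c * (b : A)) := by
    refine ⟨mul_ne_zero h.1 (nonZeroDivisors.coe_ne_zero _), (Pi.basisFun A (Fin r)).ext fun j => ?_⟩
    rw [Pi.basisFun_apply, LinearMap.comp_apply, LinearMap.comp_apply, ← LinearMap.comp_apply ι φ, h.2,
      LinearMap.smul_apply, LinearMap.smul_apply, mul_smul]
    congr 1
    rw [bmap_apply, bmap_apply, ← algebraMap_smul K (b : A), Finset.smul_sum]
    rw [Finset.sum_eq_single (s := (Finset.univ : Finset (Fin r)))
      (f := fun i => algebraMap A K (b : A) • algebraMap A K ((Pi.single j (1 : A) : Fin r → A) i) • e' i) j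
      (fun i _ hi => by simp [Pi.single_eq_of_ne hi]) (fun hj => absurd (Finset.mem_univ j) hj)]
    rw [Pi.single_eq_same, map_one, one_smul]
    conv_rhs => rw [← e.sum_toMatrix_smul_self e' j, Finset.smul_sum]
    refine Finset.sum_congr rfl fun i _ => ?_
    rw [smul_smul]
    congr 1
    have := congrFun (congrFun hPK i) j
    rw [Matrix.map_apply, Matrix.smul_apply, smul_eq_mul] at this
    rw [← this, mulAct_apply]
    simp [Pi.single_apply]
  rw [nu_eq hA ι h, nu_eq hA ι h', idx_comp hA ι h hdet, hdetK, map_mul,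
    ordFrac_mul hA ((map_ne_zero_iff _ (IsFractionRing.injective A K)).2 h.1) hbne,
    ordFrac_mul hA (pow_ne_zero _ hbne) hG]
  have hp : ∀ n : ℕ, CycAlg.ordFrac A K (algebraMap A K (b : A) ^ n) = n * CycAlg.ordFrac A K (algebraMap A K (b : A)) := by
    intro n
    induction n with
    | zero =>
      have h0 := (ordFrac_algebraMap (K := K) hA (one_ne_zero (α := A))).1
      rw [map_one] at h0
      rw [pow_zero, h0, Ideal.span_singleton_one, Module.length_eq_zero]
      simp
    | succ n ih =>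
      rw [pow_succ, ordFrac_mul hA (pow_ne_zero _ hbne) hbne, ih]
      push_cast
      ring
  rw [hp]
  ring

/-- Additivity in short exact sequences. -/
theorem nu_add {M₁ M₃ V₁ V₃ : Type u} [AddCommGroup M₁] [Module A M₁] [Module.Finite A M₁] [AddCommGroup M₃]
    [Module A M₃] [Module.Finite A M₃] [AddCommGroup V₁] [Module K V₁] [Module A V₁] [IsScalarTower A K V₁]
    [AddCommGroup V₃] [Module K V₃] [Module A V₃] [IsScalarTower A K V₃] (hA : ringKrullDim A ≤ 1)
    (ι₁ : M₁ →ₗ[A] V₁) [IsLocalizedModule (nonZeroDivisors A) ι₁]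
    (ι₃ : M₃ →ₗ[A] V₃) [IsLocalizedModule (nonZeroDivisors A) ι₃]
    (f : M₁ →ₗ[A] M) (g : M →ₗ[A] M₃) (hf : Function.Injective f) (hg : Function.Surjective g) (hfg : Function.Exact f g)
    (fV : V₁ →ₗ[K] V) (gV : V →ₗ[K] V₃) (hfV : ∀ m, ι (f m) = fV (ι₁ m)) (hgV : ∀ m, ι₃ (g m) = gV (ι m))
    {r₁ r₃ : ℕ} (e₁ : Module.Basis (Fin r₁) K V₁) (e₃ : Module.Basis (Fin r₃) K V₃)
    (e : Module.Basis (Fin (r₁ + r₃)) K V) (he₁ : ∀ i, e (Fin.castAdd r₃ i) = fV (e₁ i))
    (he₃ : ∀ j, gV (e (Fin.natAdd r₁ j)) = e₃ j) :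
    nu ι e = nu ι₁ e₁ + nu ι₃ e₃ := by
  classical
  obtain ⟨φ, c, h⟩ := exists_rep ι e
  obtain ⟨φ₁', c₁, h₁'⟩ := exists_rep ι₁ e₁
  -- a common multiplier
  have hc₁ : c₁ ≠ 0 := h₁'.1
  let C : A := c * c₁
  have hC : C ≠ 0 := mul_ne_zero h.1 hc₁
  let φ₁ : (Fin r₁ → A) →ₗ[A] M₁ := c • φ₁'
  have h₁ : Rep ι₁ e₁ φ₁ C := ⟨hC, by rw [LinearMap.comp_smul, h₁'.2, smul_smul]⟩
  let mm : Fin (r₁ + r₃) → M := Fin.addCases (fun i => f (φ₁ (Pi.single i 1)))
    (fun j => c₁ • φ (Pi.single (Fin.natAdd r₁ j) 1))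
  let ψ : (Fin (r₁ + r₃) → A) →ₗ[A] M := Fintype.linearCombination A mm
  have hbs : ∀ {n : ℕ} {W : Type u} [AddCommGroup W] [Module K W] [Module A W] [IsScalarTower A K W]
      (b : Module.Basis (Fin n) K W) (i : Fin n), bmap (A := A) b (Pi.single i 1) = b i := by
    intro n W _ _ _ _ b i
    rw [bmap_apply, Finset.sum_eq_single i (fun l _ hl => by simp [Pi.single_eq_of_ne hl])
      (fun hi => absurd (Finset.mem_univ i) hi)]
    simp
  have hψs : ∀ l, ψ (Pi.single l 1) = mm l := fun l => by
    rw [Fintype.linearCombination_apply_single, one_smul]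
  have hψ : Rep ι e ψ C := by
    refine ⟨hC, (Pi.basisFun A (Fin (r₁ + r₃))).ext fun l => ?_⟩
    rw [Pi.basisFun_apply, LinearMap.comp_apply, LinearMap.smul_apply, hbs, hψs]
    induction l using Fin.addCases with
    | left i =>
      simp only [mm, Fin.addCases_left]
      rw [hfV, ← LinearMap.comp_apply ι₁ φ₁, h₁.2, LinearMap.smul_apply, hbs, he₁]
      exact LinearMap.map_smul_of_tower fV C (e₁ i)
    | right j =>
      simp only [mm, Fin.addCases_right]
      rw [map_smul, ← LinearMap.comp_apply ι φ, h.2, LinearMap.smul_apply, hbs, smul_smul, mul_comm]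
  let φ₃ : (Fin r₃ → A) →ₗ[A] M₃ := Fintype.linearCombination A fun j => g (mm (Fin.natAdd r₁ j))
  have h₃ : Rep ι₃ e₃ φ₃ C := by
    refine ⟨hC, (Pi.basisFun A (Fin r₃)).ext fun j => ?_⟩
    rw [Pi.basisFun_apply, LinearMap.comp_apply, LinearMap.smul_apply, hbs,
      Fintype.linearCombination_apply_single, one_smul, hgV, ← hψs, ← LinearMap.comp_apply ι ψ, hψ.2,
      LinearMap.smul_apply, hbs, LinearMap.map_smul_of_tower, he₃]
  have hψsplit : ∀ x : Fin (r₁ + r₃) → A,
      ψ x = f (φ₁ (fun i => x (Fin.castAdd r₃ i))) + ∑ j, x (Fin.natAdd r₁ j) • mm (Fin.natAdd r₁ j) := fun x => by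
    rw [Fintype.linearCombination_apply, Fin.sum_univ_add]
    congr 1
    conv_rhs => rw [pi_eq_sum_univ' (fun i => x (Fin.castAdd r₃ i))]
    rw [map_sum, map_sum]
    refine Finset.sum_congr rfl fun i _ => ?_
    rw [map_smul, map_smul]
    simp [mm]
  have hgψ : ∀ x, g (ψ x) = φ₃ (fun j => x (Fin.natAdd r₁ j)) := fun x => by
    rw [hψsplit, map_add, hfg.apply_apply_eq_zero, zero_add, map_sum, Fintype.linearCombination_apply]
    simp [map_smul]
  have hi3 := rep_injective ι₃ h₃
  let i' : (M₁ ⧸ LinearMap.range φ₁) →ₗ[A] M ⧸ LinearMap.range ψ :=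
    Submodule.mapQ _ _ f (by
      rintro _ ⟨x, rfl⟩
      refine ⟨Fin.addCases x 0, ?_⟩
      rw [hψsplit]
      simp)
  let p' : (M ⧸ LinearMap.range ψ) →ₗ[A] M₃ ⧸ LinearMap.range φ₃ :=
    Submodule.mapQ _ _ g (by
      rintro _ ⟨x, rfl⟩
      exact ⟨_, (hgψ x).symm⟩)
  have hi : Function.Injective i' := by
    rw [injective_iff_map_eq_zero]
    intro z hz
    obtain ⟨m, rfl⟩ := Submodule.Quotient.mk_surjective _ z
    obtain ⟨x, hx⟩ := (Submodule.Quotient.mk_eq_zero _).1 hz
    have h0 : (fun j => x (Fin.natAdd r₁ j)) = 0 := hi3 (by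
      rw [← hgψ, hx, hfg.apply_apply_eq_zero, map_zero])
    rw [hψsplit, Finset.sum_eq_zero (fun j _ => by rw [show x (Fin.natAdd r₁ j) = 0 from congrFun h0 j, zero_smul]),
      add_zero] at hx
    exact (Submodule.Quotient.mk_eq_zero _).2 ⟨_, hf hx⟩
  have hp : Function.Surjective p' := fun z => by
    obtain ⟨m, rfl⟩ := Submodule.Quotient.mk_surjective _ z
    obtain ⟨n, rfl⟩ := hg m
    exact ⟨Submodule.Quotient.mk n, rfl⟩
  have he : Function.Exact i' p' := by
    intro z
    obtain ⟨m, rfl⟩ := Submodule.Quotient.mk_surjective _ z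
    constructor
    · intro hm
      obtain ⟨y, hy⟩ := (Submodule.Quotient.mk_eq_zero _).1 hm
      have hgy : g (ψ (Fin.addCases 0 y)) = φ₃ y := by
        rw [hgψ]
        congr 1
        funext j
        simp
      have hd : g (m - ψ (Fin.addCases 0 y)) = 0 := by rw [map_sub, hgy, hy]; exact sub_self _
      obtain ⟨m₁, hm₁⟩ := (hfg _).1 hd
      refine ⟨Submodule.Quotient.mk m₁, (Submodule.Quotient.eq _).2 ?_⟩
      rw [hm₁, sub_sub_cancel_left]
      exact neg_mem ⟨_, rfl⟩
    · rintro ⟨w, hw⟩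
      obtain ⟨m₁, rfl⟩ := Submodule.Quotient.mk_surjective _ w
      rw [← hw]
      refine (Submodule.Quotient.mk_eq_zero _).2 ?_
      rw [hfg.apply_apply_eq_zero]
      exact zero_mem _
  have hlt : Module.length A (M ⧸ LinearMap.range ψ) < ⊤ := length_lt_top hA _ (torsion_coker ι hψ)
  rw [nu_eq hA ι hψ, nu_eq hA ι₁ h₁, nu_eq hA ι₃ h₃]
  simp only [idx]
  rw [len_add i' p' hi hp he hlt]
  push_cast
  ring

end Groth.Agent.DetDiv26
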