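import Groth.Agent.Lib.DetDiv26.Inv

/-! # Principal divisors have class in codimension at least two -/

set_option autoImplicit false
set_option linter.style.haveILetI false
set_option backward.isDefEq.respectTransparency false
set_option backward.isDefEq.respectTransparency.types false

universe u

open CategoryTheory CategoryTheory.Limits AlgebraicGeometry TopologicalSpace

noncomputable section

namespace Groth.Agent.DetDiv26

open Groth.Agent Groth.Agent.RH26 Groth.Agent.CohFound
open scoped Classical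

variable {X : Scheme.{u}} [IsIntegral X] [IsNoetherian X]

attribute [local instance 50] spModule
attribute [local instance 50] tower

/-- The index of the module of a divisor. -/
theorem nuAt_od {hX : Pi1.IsNormalScheme X} {D : AlgebraicCycle X ℤ} (x : C1 X)
    (e : Module.Basis (Fin 1) X.functionField ((od hX D).presheaf.stalk (genericPoint X)))
    (he : ∀ i, e i = oneη hX D) : nuAt isCoh_od x.1 e = D x.1 := by
  haveI := M1.finite_stalk (isCoh_od (hX := hX) (D := D)).1 (isCoh_od (hX := hX) (D := D)).2 x.1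
  haveI := isLocalized (isCoh_od (hX := hX) (D := D)) x.1
  obtain ⟨k, hk, hko⟩ := exists_ord_eq hX (co x) (-(D x.1))
  have hgood : InStalk (od hX D) x.1 (k • oneη hX D) := (inStalk_od_iff x.1 k).2 fun ξ hξ h1 => by
    rw [eq_of_coheight_one hξ h1 (co x)]
    exact fun _ => Or.inr (by rw [hko]; omega)
  obtain ⟨v, hv⟩ := hgood
  let e' : Module.Basis (Fin 1) X.functionField ((od hX D).presheaf.stalk (genericPoint X)) :=
    e.unitsSMul fun _ => Units.mk0 k hk
  have he' : ∀ i, e' i = k • oneη hX D := fun i => by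
    rw [show e' i = (Units.mk0 k hk) • e i from e.unitsSMul_apply i, he]
    rfl
  let φ : (Fin 1 → X.presheaf.stalk x.1) →ₗ[X.presheaf.stalk x.1] (od hX D).presheaf.stalk x.1 :=
    Fintype.linearCombination (X.presheaf.stalk x.1) fun _ => v
  have hr : Rep (spLin (od hX D) x.1) e' φ 1 := by
    refine ⟨one_ne_zero, LinearMap.ext fun z => ?_⟩
    rw [one_smul, LinearMap.comp_apply, bmap_apply, Fintype.linearCombination_apply, Fin.sum_univ_one, Fin.sum_univ_one,
      map_smul, he', show spLin (od hX D) x.1 v = k • oneη hX D from hv]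
    exact (algebraMap_smul X.functionField (z 0) (k • oneη hX D)).symm
  have htop : LinearMap.range φ = ⊤ := by
    refine LinearMap.range_eq_top.2 fun m => ?_
    obtain ⟨l, hl⟩ := gen_oneη.2 ((od hX D).presheaf.stalkSpecializes (gsp x.1) m)
    have hgd := (inStalk_od_iff (hX := hX) (D := D) x.1 l).1 ⟨m, hl.symm⟩ x.1 specializes_rfl (co x) (co x)
    have hb : ∃ b, X.presheaf.stalkSpecializes (gsp x.1) b = (l : X.functionField) * k⁻¹ := by
      rcases eq_or_ne (α := X.functionField) l 0 with h0 | h0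
      · exact ⟨0, by rw [map_zero, h0, zero_mul]⟩
      · refine (inStalk_function_iff hX (co x) (mul_ne_zero h0 (inv_ne_zero hk))).2 ?_
        have h' := hgd.resolve_left h0
        rw [Scheme.ord_mul h0 (inv_ne_zero hk), ord_inv hk, hko]
        omega
    obtain ⟨b, hb⟩ := hb
    refine ⟨fun _ => b, (r1_od (hX := hX) (D := D)).closed.1 x.1 ?_⟩
    rw [Fintype.linearCombination_apply, Fin.sum_univ_one, Cyc26.stalkSpecializes_smul, hv, ← hl, hb]
    show ((l : X.functionField) * k⁻¹) • (k • oneη hX D) = (l : X.functionField) • oneη hX D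
    rw [smul_smul, mul_assoc, inv_mul_cancel₀ hk, mul_one]
  have h0 : nuAt isCoh_od x.1 e' = 0 := by
    show nu (spLin (od hX D) x.1) e' = 0
    rw [nu_eq (le_of_eq x.2) (spLin (od hX D) x.1) hr, idx, len]
    haveI : Subsingleton ((od hX D).presheaf.stalk x.1 ⧸ LinearMap.range φ) :=
      Submodule.Quotient.subsingleton_iff.2 htop
    rw [Module.length_eq_zero, ordFrac_eq_ord (co x), map_one, ord_one]
    simp
  have hdet : (e.toMatrix e').det = k := by
    rw [Matrix.det_fin_one, Module.Basis.toMatrix_apply, he', ← he 0, map_smul, Module.Basis.repr_self]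
    simp
  have := nuAt_change isCoh_od x e e'
  rw [h0, hdet, hko] at this
  omega

/-- A finitely supported cycle. -/
def mkCycle (v : X → ℤ) (hv : (Function.support v).Finite) : AlgebraicCycle X ℤ where
  toFun := v
  supportWithinDomain' := Set.subset_univ _
  supportLocallyFiniteWithinDomain' _ _ := ⟨Set.univ, Filter.univ_mem, hv.subset fun _ h => h.2⟩

theorem mkCycle_apply (v : X → ℤ) (hv : (Function.support v).Finite) (x : X) : mkCycle v hv x = v x := rfl

/-- The class of a torsion module is the cycle of its lengths modulo codimension two. -/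
theorem kc_sub_mem (Z : Set X) (hη : genericPoint X ∉ Z) (hZ : IsClosed Z) (T : Finset X)
    (hT : ∀ x, x ∈ T ↔ x ∈ Z ∧ ringKrullDim (X.presheaf.stalk x) = 1) {G : X.Modules} (hG : Coh.IsCoh G)
    (hGZ : CohB1.support G ⊆ Z) :
    KCoh4.kc G - ∑ x ∈ T, len (X.presheaf.stalk x) (G.presheaf.stalk x) • KCoh4.kc (Cyc.closureStructureSheaf x) ∈
      coniveau2 X := by
  let P : X.Modules → Prop := fun M => KCoh4.kc M - ∑ x ∈ T,
    len (X.presheaf.stalk x) (M.presheaf.stalk x) • KCoh4.kc (Cyc.closureStructureSheaf x) ∈ coniveau2 X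
  have hlen : ∀ (M : X.Modules) (x : X),
      NumPoly18.lenAt M x = (len (X.presheaf.stalk x) (M.presheaf.stalk x) : ℚ) := fun M x => by
    simp [NumPoly18.lenAt, len]
  have hmax : ∀ y ∈ Z, ∀ x ∈ T, y ⤳ x → y = x := fun y hy x hx h => by
    rcases eq_genericPoint_or_one_le y with rfl | h1
    · exact absurd hy hη
    have h2 := SecDiv.ringKrullDim_stalk_mono h
    rw [((hT x).1 hx).2] at h2
    exact eq_of_coheight_one h ((dim_eq_one_iff y).1 (le_antisymm h2 h1)) ((dim_eq_one_iff x).1 ((hT x).1 hx).2)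
  have hiso : ∀ M N : X.Modules, Nonempty (M ≅ N) → P M → P N := fun M N ⟨e⟩ h => by
    have he : ∀ x, len (X.presheaf.stalk x) (N.presheaf.stalk x) = len (X.presheaf.stalk x) (M.presheaf.stalk x) :=
      fun x => by exact_mod_cast (hlen N x).symm.trans ((NumPoly18.lenAt_iso e x).symm.trans (hlen M x))
    show KCoh4.kc N - _ ∈ _
    rw [← KCoh4.kc_iso e, Finset.sum_congr rfl fun x _ => by rw [he x]]
    exact h
  have hadd : ∀ S : ShortComplex X.Modules, S.ShortExact → Coh.IsCoh S.X₁ → Coh.IsCoh S.X₂ → Coh.IsCoh S.X₃ →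
      CohB1.support S.X₂ ⊆ Z →
      KCoh4.kc S.X₂ - ∑ x ∈ T, len (X.presheaf.stalk x) (S.X₂.presheaf.stalk x) • KCoh4.kc (Cyc.closureStructureSheaf x) =
        (KCoh4.kc S.X₁ - ∑ x ∈ T, len (X.presheaf.stalk x) (S.X₁.presheaf.stalk x) • KCoh4.kc (Cyc.closureStructureSheaf x)) +
        (KCoh4.kc S.X₃ - ∑ x ∈ T, len (X.presheaf.stalk x) (S.X₃.presheaf.stalk x) • KCoh4.kc (Cyc.closureStructureSheaf x)) := by
    intro S hS a b c hs
    have he : ∀ x ∈ T, len (X.presheaf.stalk x) (S.X₂.presheaf.stalk x) =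
        len (X.presheaf.stalk x) (S.X₁.presheaf.stalk x) + len (X.presheaf.stalk x) (S.X₃.presheaf.stalk x) :=
      fun x hx => by
        have := NumPoly18.lenAt_shortExact hS a c (ξ := x) fun y hy h => hmax y (hs hy) x hx h
        rw [hlen, hlen, hlen] at this
        exact_mod_cast this
    rw [KCoh4.kc_ses hS a b c, Finset.sum_congr rfl fun x hx => by rw [he x hx, add_smul], Finset.sum_add_distrib]
    abel
  have hP : TwoOfThreeOn P Z :=
    { of_isZero := fun M hM hz => by
        show KCoh4.kc M - _ ∈ coniveau2 X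
        rw [show KCoh4.kc M = 0 from K0Cat.clSub_of_isZero hz hM, Finset.sum_eq_zero fun x _ => by
          rw [len_eq_zero (fun h => h (AddCommGrpCat.subsingleton_of_isZero ((M1.stalkAb x).map_isZero hz))), zero_smul],
          sub_zero]
        exact AddSubgroup.zero_mem _
      mid := fun S hS a b c hs p q => by
        show KCoh4.kc S.X₂ - _ ∈ _
        rw [hadd S hS a b c hs]; exact AddSubgroup.add_mem _ p q
      left := fun S hS a b c hs p q => by
        show KCoh4.kc S.X₁ - _ ∈ _
        rw [eq_sub_of_add_eq (hadd S hS a b c hs).symm]; exact AddSubgroup.sub_mem _ p q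
      right := fun S hS a b c hs p q => by
        show KCoh4.kc S.X₃ - _ ∈ _
        rw [eq_sub_of_add_eq ((add_comm _ _).trans (hadd S hS a b c hs).symm)]; exact AddSubgroup.sub_mem _ q p }
  refine hP.holds (fun η hηZ => NumPoly18.nonempty_model hiso η ?_) hG hGZ
  show KCoh4.kc (NumPoly18.ptMod η) - _ ∈ coniveau2 X
  have hzero : ∀ x ∈ T, x ≠ η → len (X.presheaf.stalk x) ((NumPoly18.ptMod η).presheaf.stalk x) = 0 := fun x hx hne =>
    len_eq_zero fun h => hne (hmax η hηZ x hx (specializes_iff_mem_closure.2 (NumPoly18.support_ptMod η h))).symm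
  by_cases hT' : η ∈ T
  · have h1 : len (X.presheaf.stalk η) ((NumPoly18.ptMod η).presheaf.stalk η) = 1 := by
      have := NumPoly18.lenAt_ptMod_self η
      rw [hlen] at this
      exact_mod_cast this
    rw [Finset.sum_eq_single η (fun x hx hne => by rw [hzero x hx hne, zero_smul]) (fun h => (h hT').elim), h1,
      one_smul, ← KCoh4.ptMod_eq, sub_self]
    exact AddSubgroup.zero_mem _
  · rw [Finset.sum_eq_zero fun x hx => by rw [hzero x hx (fun h => hT' (h ▸ hx)), zero_smul], sub_zero]
    refine AddSubgroup.subset_closure ⟨_, NumPoly18.isCoh_ptMod η, fun y hy => ?_, rfl⟩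
    refine le_trans ?_ (SecDiv.ringKrullDim_stalk_mono (specializes_iff_mem_closure.2 (NumPoly18.support_ptMod η hy)))
    have hne : ringKrullDim (X.presheaf.stalk η) ≠ 1 := fun h => hT' ((hT η).2 ⟨hηZ, h⟩)
    rcases eq_genericPoint_or_one_le η with h0 | h1
    · exact absurd hηZ (h0 ▸ hη)
    revert h1 hne
    generalize ringKrullDim (X.presheaf.stalk η) = d
    intro hne h1
    cases d with
    | bot => simp at h1
    | coe m =>
      refine WithBot.coe_le_coe.2 ?_
      have h1' : (1 : ℕ∞) ≤ m := WithBot.coe_le_coe.1 h1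
      have h2' : m ≠ 1 := fun e => hne (by rw [e]; rfl)
      show (2 : ℕ∞) ≤ m
      rw [show (2 : ℕ∞) = 1 + 1 from rfl]
      exact Order.add_one_le_of_lt (lt_of_le_of_ne h1' (Ne.symm h2'))

/-- An effective divisor and its structure sheaf class. -/
theorem exists_coker (hX : Pi1.IsNormalScheme X) (Q : X →₀ ℤ)
    (hQ : ∀ x ∈ Q.support, ringKrullDim (X.presheaf.stalk x) = 1) (hpos : ∀ x, 0 ≤ Q x) :
    (KCoh4.kc (od hX (mkCycle (0 : X → ℤ) (by simp))) - KCoh4.kc (od hX (mkCycle (fun x => -Q x)
      (Q.finite_support.subset fun x h => by simpa using h)))) - divCl Q ∈ coniveau2 X := by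
  set A0 := od hX (mkCycle (0 : X → ℤ) (by simp))
  set A1 := od hX (mkCycle (fun x => -Q x) (Q.finite_support.subset fun x h => by simpa using h))
  let g1 := gen_oneη (hX := hX) (D := mkCycle (fun x => -Q x) (Q.finite_support.subset fun x h => by simpa using h))
  let g0 := gen_oneη (hX := hX) (D := mkCycle (0 : X → ℤ) (by simp))
  let e1 := LinearEquiv.ofBijective (LinearMap.toSpanSingleton (X.presheaf.stalk (genericPoint X)) _ _) g1
  let e0 := LinearEquiv.ofBijective (LinearMap.toSpanSingleton (X.presheaf.stalk (genericPoint X)) _ _) g0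
  let L := e1.symm.trans e0
  have hL : ∀ k : X.functionField, L (k • oneη hX _) = k • oneη hX _ := fun k => by
    show e0 (e1.symm _) = _
    rw [(LinearEquiv.symm_apply_eq e1).2 (show k • oneη hX _ = e1 k from rfl)]
    rfl
  obtain ⟨j, hj⟩ := exists_hom_of_generic (F := A1) (G := A0) r1_od.closed L.toLinearMap fun x hx a ha => by
    obtain ⟨k, rfl⟩ := g1.2 a
    show InStalk A0 x (L (k • oneη hX _))
    rw [hL]
    refine (inStalk_od_iff x k).2 fun ξ hξ h1 h1' => ?_
    rcases ((inStalk_od_iff x k).1 ha ξ hξ h1) h1' with h | h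
    · exact Or.inl h
    · refine Or.inr ?_
      rw [mkCycle_apply] at h ⊢
      have := hpos ξ
      simp only [Pi.zero_apply]
      omega
  have hA1 : Coh.IsCoh A1 := isCoh_od
  have hA0 : Coh.IsCoh A0 := isCoh_od
  haveI : Mono j := (KFlat.Sch.mono_iff_stalk j).2 fun y => by
    show Function.Injective (RefHull.stalkMapₗ j y)
    intro a b h
    apply (r1_od (hX := hX)).closed.1 y
    apply L.injective
    show L.toLinearMap _ = L.toLinearMap _
    rw [← hj, ← hj, ← stalkMapₗ_stalkSpecializes, ← stalkMapₗ_stalkSpecializes, h]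
  let S : ShortComplex X.Modules := ShortComplex.mk j (cokernel.π j) (cokernel.condition j)
  have hS : S.ShortExact := { exact := S.exact_of_g_is_cokernel (cokernelIsCokernel j) }
  have hG : Coh.IsCoh S.X₃ := M1.isCoh_cokernel hA1.1 hA0 j
  obtain ⟨-, he, hs⟩ := Cyc26.stalkLin_exact hS (genericPoint X)
  haveI : Subsingleton (S.X₃.presheaf.stalk (genericPoint X)) := by
    refine subsingleton_of_forall_eq 0 fun z => ?_
    obtain ⟨w, rfl⟩ := hs z
    refine (he w).2 ⟨L.symm w, ?_⟩
    show RefHull.stalkMapₗ j (genericPoint X) (L.symm w) = w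
    rw [hj]
    exact L.apply_symm_apply w
  have hη : genericPoint X ∉ CohB1.support S.X₃ := not_not.2 ‹_›
  have hlen : ∀ x : C1 X, len (X.presheaf.stalk x.1) (S.X₃.presheaf.stalk x.1) = Q x.1 := fun x => by
    let b1 := (Module.Basis.singleton (Fin 1) X.functionField).map e1
    let b0 := (Module.Basis.singleton (Fin 1) X.functionField).map e0
    have hb1 : ∀ i, b1 i = oneη hX _ := fun i => by
      show e1 (Module.Basis.singleton (Fin 1) X.functionField i) = _
      rw [Module.Basis.singleton_apply]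
      simp [e1, e0]
    have hb0 : ∀ i, b0 i = oneη hX _ := fun i => by
      show e0 (Module.Basis.singleton (Fin 1) X.functionField i) = _
      rw [Module.Basis.singleton_apply]
      simp [e1, e0]
    have h := nuAt_add hS hA1 hA0 hG x b1 (Module.Basis.empty _ (ι := Fin 0)) b0
      (fun i => by
        show b0 _ = RefHull.stalkMapₗ j _ (b1 i)
        rw [hb0, hb1, hj]
        refine Eq.trans ?_ (congrArg L (one_smul (X.presheaf.stalk (genericPoint X)) _))
        exact ((hL 1).trans (one_smul _ _)).symm)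
      (fun i => i.elim0)
    have a0 := nuAt_od x b0 hb0
    have a1 := nuAt_od x b1 hb1
    rw [mkCycle_apply] at a0 a1
    change nuAt hA0 x.1 b0 = _ at h
    rw [nuAt_torsion hG x] at h
    simp only [Pi.zero_apply] at a0
    rw [show nuAt hA0 x.1 b0 = 0 from a0, show nuAt hA1 x.1 b1 = -Q x.1 from a1] at h
    omega
  have hfin : {x : X | x ∈ CohB1.support S.X₃ ∧ ringKrullDim (X.presheaf.stalk x) = 1} ⊆ ↑Q.support := by
    rintro x ⟨hxs, hx1⟩
    rw [Finset.mem_coe, Finsupp.mem_support_iff, ← hlen ⟨x, hx1⟩]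
    intro h0
    have hlt : Module.length (X.presheaf.stalk x) (S.X₃.presheaf.stalk x) < ⊤ := by
      haveI := M1.finite_stalk hG.1 hG.2 x
      haveI := isLocalized hG x
      refine length_lt_top (le_of_eq hx1) _ fun z => ?_
      obtain ⟨s, hs⟩ := (IsLocalizedModule.eq_iff_exists (nonZeroDivisors (X.presheaf.stalk x)) (spLin S.X₃ x)
        (x₁ := z) (x₂ := 0)).1 (Subsingleton.elim _ _)
      exact ⟨s.1, nonZeroDivisors.coe_ne_zero s, by simpa [Submonoid.smul_def] using hs⟩
    have h0' : (Module.length (X.presheaf.stalk x) (S.X₃.presheaf.stalk x)).toNat = 0 := by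
      simpa [len] using h0
    rcases ENat.toNat_eq_zero.1 h0' with h | h
    · exact hxs (Module.length_eq_zero_iff.1 h)
    · exact hlt.ne h
  let T := ((Q.support.finite_toSet).subset hfin).toFinset
  have hmem := kc_sub_mem (CohB1.support S.X₃) hη (M1.isClosed_support hG.2) T (fun x => Set.Finite.mem_toFinset _) hG le_rfl
  have hsum : ∑ x ∈ T, len (X.presheaf.stalk x) (S.X₃.presheaf.stalk x) • KCoh4.kc (Cyc.closureStructureSheaf x) =
      divCl Q := by
    rw [divCl, Finsupp.sum]
    refine (Finset.sum_congr rfl fun x hx => by rw [hlen ⟨x, ((Set.Finite.mem_toFinset _).1 hx).2⟩]).trans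
      (Finset.sum_subset (fun x hx => hfin ((Set.Finite.mem_toFinset _).1 hx)) fun x hx hxT => ?_)
    have hns : x ∉ CohB1.support S.X₃ := fun h => hxT ((Set.Finite.mem_toFinset _).2 ⟨h, hQ x hx⟩)
    rw [← hlen ⟨x, hQ x hx⟩, len_eq_zero hns, zero_smul]
  rw [hsum] at hmem
  rw [show KCoh4.kc A0 - KCoh4.kc A1 = KCoh4.kc S.X₃ from by
    rw [KCoh4.kc_ses (S := S) hS hA1 hA0 hG]; exact add_sub_cancel_left _ _]
  exact hmem

theorem mem_of_principal (hX : Pi1.IsNormalScheme X) (D : X →₀ ℤ)
    (hD : ∀ x ∈ D.support, ringKrullDim (X.presheaf.stalk x) = 1) {f : X.functionField} (hf : f ≠ 0)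
    (h : ∀ x : C1 X, D x.1 = Scheme.ord f x.1) : divCl D ∈ coniveau2 X := by
  let P : X →₀ ℤ := D.mapRange (fun n => max n 0) (by simp)
  let N : X →₀ ℤ := D.mapRange (fun n => max (-n) 0) (by simp)
  have hsP : ∀ x ∈ P.support, ringKrullDim (X.presheaf.stalk x) = 1 := fun x hx => hD x (Finsupp.support_mapRange hx)
  have hsN : ∀ x ∈ N.support, ringKrullDim (X.presheaf.stalk x) = 1 := fun x hx => hD x (Finsupp.support_mapRange hx)
  have hDPN : D = P - N := by
    ext x
    simp only [P, N, Finsupp.sub_apply, Finsupp.mapRange_apply]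
    omega
  have hP := exists_coker hX P hsP fun x => by simp [P]
  have hN := exists_coker hX N hsN fun x => by simp [N]
  obtain ⟨eiso⟩ : Nonempty (od hX (mkCycle (fun x => -N x) (N.finite_support.subset fun x h => by simpa using h)) ≅
      od hX (mkCycle (fun x => -P x) (P.finite_support.subset fun x h => by simpa using h))) := by
    refine r1_od.nonempty_iso r1_od oneη_ne_zero (r1_od.smul_ne_zero hf oneη_ne_zero) fun x hx => ?_
    rw [ordv_oneη hx, r1_od.ordv_smul hx hf oneη_ne_zero, ordv_oneη hx, mkCycle_apply, mkCycle_apply]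
    have h' : D x = Scheme.ord f x := h ⟨x, (dim_eq_one_iff x).2 hx⟩
    rw [← h', hDPN, Finsupp.sub_apply]
    omega
  rw [KCoh4.kc_iso eiso] at hN
  have := AddSubgroup.sub_mem _ hN hP
  rw [sub_sub_sub_cancel_left] at this
  have hcl : divCl D = divCl P - divCl N := by
    rw [hDPN]
    exact Finsupp.sum_sub_index fun a b₁ b₂ => sub_smul _ _ _
  rwa [hcl]

end Groth.Agent.DetDiv26
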