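import Groth.Agent.Lib.DetDiv26.Alg
import Groth.Agent.Lib.RefHull26.ODRef
import Groth.Agent.Lib.KCoh4.Filt
import Groth.Agent.Lib.VarDim.Fibre
import Groth.Agent.Lib.SecDiv18.Peel
import Groth.Agent.Lib.KFlat.Scheme
import Groth.Prelude.Def_SGA6

/-! # The determinant divisor class on the K-group of coherent modules -/

set_option autoImplicit false
set_option linter.style.haveILetI false
set_option backward.isDefEq.respectTransparency false
set_option backward.isDefEq.respectTransparency.types false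

universe u

open CategoryTheory CategoryTheory.Limits AlgebraicGeometry TopologicalSpace

noncomputable section

namespace Groth.Agent.DetDiv26

open Groth.Agent Groth.Agent.RH26
open scoped Classical

variable {X : Scheme.{u}} [IsIntegral X] [IsNoetherian X]

/-- Points of codimension one. -/
abbrev C1 (X : Scheme.{u}) : Type u := {x : X // ringKrullDim (X.presheaf.stalk x) = 1}

theorem co (x : C1 X) : Order.coheight x.1 = 1 := (dim_eq_one_iff x.1).1 x.2

@[reducible] def spModule (F : X.Modules) (x : X) :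
    Module (X.presheaf.stalk x) (F.presheaf.stalk (genericPoint X)) :=
  Module.compHom _ (algebraMap (X.presheaf.stalk x) X.functionField)

attribute [local instance 50] spModule

theorem tower (F : X.Modules) (x : X) :
    IsScalarTower (X.presheaf.stalk x) X.functionField (F.presheaf.stalk (genericPoint X)) :=
  IsScalarTower.of_algebraMap_smul fun _ _ => rfl

attribute [local instance 50] tower

/-- Specialisation as a linear map. -/
def spLin (F : X.Modules) (x : X) :
    F.presheaf.stalk x →ₗ[X.presheaf.stalk x] F.presheaf.stalk (genericPoint X) where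
  toFun := F.presheaf.stalkSpecializes (gsp x)
  map_add' := map_add (F.presheaf.stalkSpecializes (gsp x)).hom
  map_smul' r m := Cyc26.stalkSpecializes_smul F (gsp x) r m

theorem isLocalized {F : X.Modules} (hF : Coh.IsCoh F) (x : X) :
    IsLocalizedModule (nonZeroDivisors (X.presheaf.stalk x)) (spLin F x) := by
  haveI := hF.1
  obtain ⟨U, hU, hx, -⟩ := exists_isAffineOpen_mem_and_subset (U := (⊤ : X.Opens)) (x := x) trivial
  have hξ : genericPoint X ∈ U := mem_of_genericPoint U hx
  have hsp : ∀ r : Γ(X, U), X.presheaf.stalkSpecializes (gsp x) (X.presheaf.germ U x hx r) =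
      X.presheaf.germ U _ hξ r :=
    fun r => TopCat.Presheaf.germ_stalkSpecializes_apply X.presheaf hx (gsp x) r
  have hspF : ∀ s : Γ(F, U), F.presheaf.stalkSpecializes (gsp x) (F.presheaf.germ U x hx s) =
      F.presheaf.germ U _ hξ s :=
    fun s => TopCat.Presheaf.germ_stalkSpecializes_apply F.presheaf hx (gsp x) s
  have hnz : ∀ r : Γ(X, U), IsUnit (X.presheaf.germ U _ hξ r) →
      X.presheaf.germ U x hx r ∈ nonZeroDivisors (X.presheaf.stalk x) := fun r hr =>
    mem_nonZeroDivisors_of_ne_zero fun h0 => by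
      rw [← hsp, h0, map_zero] at hr
      exact not_isUnit_zero hr
  constructor
  · intro a
    rw [Module.End.isUnit_iff]
    obtain ⟨u, hu⟩ : IsUnit (X.presheaf.stalkSpecializes (gsp x) a.1) :=
      sp_ne_zero (nonZeroDivisors.coe_ne_zero a)
    refine Function.bijective_iff_has_inverse.mpr
      ⟨fun m => (↑u⁻¹ : X.presheaf.stalk (genericPoint X)) • m, fun m => ?_, fun m => ?_⟩
    · change (↑u⁻¹ : X.presheaf.stalk (genericPoint X)) • (X.presheaf.stalkSpecializes (gsp x) a.1 • m) = m
      rw [← hu, ← mul_smul, Units.inv_mul, one_smul]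
    · change X.presheaf.stalkSpecializes (gsp x) a.1 • ((↑u⁻¹ : X.presheaf.stalk (genericPoint X)) • m) = m
      rw [← hu, ← mul_smul, Units.mul_inv, one_smul]
  · intro m
    obtain ⟨r, s, hr, he⟩ := M1.exists_germ_smul_eq F hU hξ m
    refine ⟨⟨F.presheaf.germ U x hx s, ⟨_, hnz r hr⟩⟩, ?_⟩
    show X.presheaf.stalkSpecializes (gsp x) (X.presheaf.germ U x hx r) • m = F.presheaf.stalkSpecializes (gsp x) _
    rw [hsp, hspF, he]
  · intro m₁ m₂ he
    obtain ⟨r, s, hr, hrs⟩ := M1.exists_germ_smul_eq F hU hx (m₁ - m₂)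
    have h0 : F.presheaf.germ U _ hξ s = 0 := by
      rw [← hspF, ← hrs, Cyc26.stalkSpecializes_smul, map_sub, show F.presheaf.stalkSpecializes (gsp x) m₁ =
        F.presheaf.stalkSpecializes (gsp x) m₂ from he, sub_self, smul_zero]
    obtain ⟨c, hc, hcs⟩ := M1.exists_smul_eq_zero_of_germ_eq_zero F hU hξ s h0
    have hru : IsUnit (X.presheaf.germ U _ hξ r) := by rw [← hsp]; exact hr.map _
    refine ⟨⟨_, mul_mem (hnz c hc) (hnz r hru)⟩, sub_eq_zero.1 ?_⟩
    show (X.presheaf.germ U x hx c * X.presheaf.germ U x hx r) • m₁ -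
      (X.presheaf.germ U x hx c * X.presheaf.germ U x hx r) • m₂ = 0
    rw [← smul_sub, mul_smul, hrs, ← M1.germ_smul, hcs, map_zero]

/-- The index at a point. -/
def nuAt {F : X.Modules} (hF : Coh.IsCoh F) (x : X) {r : ℕ}
    (e : Module.Basis (Fin r) X.functionField (F.presheaf.stalk (genericPoint X))) : ℤ :=
  haveI := M1.finite_stalk hF.1 hF.2 x
  haveI := isLocalized hF x
  nu (spLin F x) e

theorem ordFrac_eq_ord {x : X} (hx : Order.coheight x = 1) (f : X.functionField) :
    CycAlg.ordFrac (X.presheaf.stalk x) X.functionField f = Scheme.ord f x := by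
  have : Ring.KrullDimLE 1 (X.presheaf.stalk x) := krullDimLE_of_coheight_le hx.le
  rw [CycAlg.ordFrac, dif_pos ⟨inferInstance, this, inferInstance, inferInstance⟩]
  rw [Scheme.ord_eq_ordHom_of_coheight_eq_one hx]
  show _ = Multiplicative.toAdd ((Ring.ordFrac (X.presheaf.stalk x) f).unzeroD 1)
  cases Ring.ordFrac (X.presheaf.stalk x) f <;> rfl

theorem nuAt_change {F : X.Modules} (hF : Coh.IsCoh F) (x : C1 X) {r : ℕ}
    (e e' : Module.Basis (Fin r) X.functionField (F.presheaf.stalk (genericPoint X))) :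
    nuAt hF x.1 e' = nuAt hF x.1 e + Scheme.ord (e.toMatrix e').det x.1 := by
  haveI := M1.finite_stalk hF.1 hF.2 x.1
  haveI := isLocalized hF x.1
  rw [← ordFrac_eq_ord (co x)]
  exact nu_change (le_of_eq x.2) (spLin F x.1) e e'

variable (X) in
/-- Principal divisors on the codimension one points. -/
def prin : AddSubgroup (C1 X → ℤ) where
  carrier := {v | ∃ f : X.functionField, f ≠ 0 ∧ ∀ x, v x = Scheme.ord f x.1}
  zero_mem' := ⟨1, one_ne_zero, fun x => (ord_one x.1).symm⟩
  add_mem' := by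
    rintro a b ⟨f, hf, ha⟩ ⟨g, hg, hb⟩
    exact ⟨f * g, mul_ne_zero hf hg, fun x => by rw [Pi.add_apply, ha, hb, Scheme.ord_mul hf hg]⟩
  neg_mem' := by
    rintro a ⟨f, hf, ha⟩
    exact ⟨f⁻¹, inv_ne_zero hf, fun x => by rw [Pi.neg_apply, ha, ord_inv hf]⟩

theorem finite_gen {F : X.Modules} (hF : Coh.IsCoh F) :
    Module.Finite X.functionField (F.presheaf.stalk (genericPoint X)) :=
  M1.finite_stalk hF.1 hF.2 (genericPoint X)

/-- The divisor class of a coherent module. -/
def phi {F : X.Modules} (hF : Coh.IsCoh F) : (C1 X → ℤ) ⧸ prin X :=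
  haveI := finite_gen hF
  QuotientAddGroup.mk fun x => nuAt hF x.1 (Module.finBasis X.functionField (F.presheaf.stalk (genericPoint X)))

theorem det_toMatrix_ne_zero {F : X.Modules} {r : ℕ}
    (e e' : Module.Basis (Fin r) X.functionField (F.presheaf.stalk (genericPoint X))) : (e.toMatrix e').det ≠ 0 := by
  have := congrArg Matrix.det (e.toMatrix_mul_toMatrix_flip e')
  rw [Matrix.det_mul, Matrix.det_one] at this
  exact left_ne_zero_of_mul_eq_one this

theorem phi_eq {F : X.Modules} (hF : Coh.IsCoh F) {r : ℕ}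
    (e : Module.Basis (Fin r) X.functionField (F.presheaf.stalk (genericPoint X))) :
    phi hF = QuotientAddGroup.mk fun x => nuAt hF x.1 e := by
  haveI := finite_gen hF
  have hr := (Module.finrank_eq_card_basis e).trans (Fintype.card_fin r)
  subst hr
  refine QuotientAddGroup.eq.2 ⟨_, det_toMatrix_ne_zero
    (Module.finBasis X.functionField (F.presheaf.stalk (genericPoint X))) e, fun x => ?_⟩
  rw [Pi.add_apply, Pi.neg_apply, nuAt_change hF x
    (Module.finBasis X.functionField (F.presheaf.stalk (genericPoint X))) e]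
  exact neg_add_cancel_left _ _

theorem nuAt_add {S : ShortComplex X.Modules} (hS : S.ShortExact) (h₁ : Coh.IsCoh S.X₁) (h₂ : Coh.IsCoh S.X₂)
    (h₃ : Coh.IsCoh S.X₃) (x : C1 X) {r₁ r₃ : ℕ}
    (e₁ : Module.Basis (Fin r₁) X.functionField (S.X₁.presheaf.stalk (genericPoint X)))
    (e₃ : Module.Basis (Fin r₃) X.functionField (S.X₃.presheaf.stalk (genericPoint X)))
    (e : Module.Basis (Fin (r₁ + r₃)) X.functionField (S.X₂.presheaf.stalk (genericPoint X)))
    (he₁ : ∀ i, e (Fin.castAdd r₃ i) = RefHull.stalkMapₗ S.f (genericPoint X) (e₁ i))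
    (he₃ : ∀ j, RefHull.stalkMapₗ S.g (genericPoint X) (e (Fin.natAdd r₁ j)) = e₃ j) :
    nuAt h₂ x.1 e = nuAt h₁ x.1 e₁ + nuAt h₃ x.1 e₃ := by
  haveI := M1.finite_stalk h₁.1 h₁.2 x.1
  haveI := isLocalized h₁ x.1
  haveI := M1.finite_stalk h₂.1 h₂.2 x.1
  haveI := isLocalized h₂ x.1
  haveI := M1.finite_stalk h₃.1 h₃.2 x.1
  haveI := isLocalized h₃ x.1
  obtain ⟨hi, he, hs⟩ := Cyc26.stalkLin_exact hS x.1
  exact nu_add (spLin S.X₂ x.1) (le_of_eq x.2) (spLin S.X₁ x.1) (spLin S.X₃ x.1) (RefHull.stalkMapₗ S.f x.1)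
    (RefHull.stalkMapₗ S.g x.1) hi hs he (RefHull.stalkMapₗ S.f (genericPoint X))
    (RefHull.stalkMapₗ S.g (genericPoint X)) (fun m => stalkMapₗ_stalkSpecializes S.f (gsp x.1) m)
    (fun m => stalkMapₗ_stalkSpecializes S.g (gsp x.1) m) e₁ e₃ e he₁ he₃

theorem phi_add {S : ShortComplex X.Modules} (hS : S.ShortExact) (h₁ : Coh.IsCoh S.X₁) (h₂ : Coh.IsCoh S.X₂)
    (h₃ : Coh.IsCoh S.X₃) : phi h₂ = phi h₁ + phi h₃ := by
  haveI := finite_gen h₁
  haveI := finite_gen h₃
  let fV : S.X₁.presheaf.stalk (genericPoint X) →ₗ[X.functionField] S.X₂.presheaf.stalk (genericPoint X) :=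
    RefHull.stalkMapₗ S.f (genericPoint X)
  let gV : S.X₂.presheaf.stalk (genericPoint X) →ₗ[X.functionField] S.X₃.presheaf.stalk (genericPoint X) :=
    RefHull.stalkMapₗ S.g (genericPoint X)
  obtain ⟨hi, he, hs⟩ := Cyc26.stalkLin_exact hS (genericPoint X)
  have hi' : Function.Injective fV := hi
  have he' : Function.Exact fV gV := he
  obtain ⟨s, hs'⟩ := gV.exists_rightInverse_of_surjective (LinearMap.range_eq_top.2 hs)
  have hgs : ∀ z, gV (s z) = z := fun z => LinearMap.congr_fun hs' z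
  have hbij : Function.Bijective (fV.coprod s) := by
    constructor
    · rintro ⟨a, b⟩ ⟨a', b'⟩ h
      simp only [LinearMap.coprod_apply] at h
      have h3 := congrArg gV h
      rw [map_add, map_add, he'.apply_apply_eq_zero, he'.apply_apply_eq_zero, hgs, hgs, zero_add, zero_add] at h3
      subst h3
      rw [hi' (add_right_cancel h)]
    · intro v
      obtain ⟨a, ha⟩ := (he' (v - s (gV v))).1 (by rw [map_sub, hgs, sub_self])
      exact ⟨(a, gV v), by rw [LinearMap.coprod_apply, ha, sub_add_cancel]⟩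
  let e₁ := Module.finBasis X.functionField (S.X₁.presheaf.stalk (genericPoint X))
  let e₃ := Module.finBasis X.functionField (S.X₃.presheaf.stalk (genericPoint X))
  let e := ((e₁.prod e₃).map (LinearEquiv.ofBijective _ hbij)).reindex finSumFinEquiv
  rw [phi_eq h₁ e₁, phi_eq h₃ e₃, phi_eq h₂ e, ← QuotientAddGroup.mk_add]
  congr 1
  funext x
  refine nuAt_add hS h₁ h₂ h₃ x e₁ e₃ e (fun i => ?_) (fun j => ?_)
  · simp [e, fV]
  · show gV _ = _
    simp [e, hgs]

/-- The divisor class homomorphism. -/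
theorem exists_phi :
    ∃ Φ : SGA6.Kcoh X →+ (C1 X → ℤ) ⧸ prin X, ∀ (F : X.Modules) (hF : Coh.IsCoh F),
      Φ (KCoh4.kc F) = phi hF :=
  ⟨K0Cat.liftSub (P := fun M : X.Modules => Coh.IsCoh M) (fun F => phi F.2) fun _ h₁ h₂ h₃ hS =>
    phi_add hS h₁ h₂ h₃, fun _ hF => K0Cat.liftSub_clSub _ _ hF⟩

/-- The index of a torsion module is its length. -/
theorem nuAt_torsion {F : X.Modules} (hF : Coh.IsCoh F) (x : C1 X)
    (e : Module.Basis (Fin 0) X.functionField (F.presheaf.stalk (genericPoint X))) :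
    nuAt hF x.1 e = len (X.presheaf.stalk x.1) (F.presheaf.stalk x.1) := by
  haveI := M1.finite_stalk hF.1 hF.2 x.1
  haveI := isLocalized hF x.1
  have hr : Rep (spLin F x.1) e (0 : (Fin 0 → X.presheaf.stalk x.1) →ₗ[X.presheaf.stalk x.1] F.presheaf.stalk x.1) 1 :=
    ⟨one_ne_zero, LinearMap.ext fun z => by rw [show z = 0 from Subsingleton.elim _ _, map_zero, map_zero]⟩
  show nu (spLin F x.1) e = _
  rw [nu_eq (le_of_eq x.2) (spLin F x.1) hr]
  simp only [Nat.cast_zero, zero_mul, sub_zero, idx, len]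
  rw [((Submodule.quotEquivOfEq _ ⊥ LinearMap.range_zero).trans (Submodule.quotEquivOfEqBot ⊥ rfl)).length_eq]

theorem phi_torsion {F : X.Modules} (hF : Coh.IsCoh F) (h : genericPoint X ∉ CohB1.support F) :
    phi hF = QuotientAddGroup.mk fun x => len (X.presheaf.stalk x.1) (F.presheaf.stalk x.1) := by
  haveI : Subsingleton (F.presheaf.stalk (genericPoint X)) := not_not.1 h
  rw [phi_eq hF (Module.Basis.empty _ (ι := Fin 0))]
  congr 1
  funext x
  exact nuAt_torsion hF x _

theorem len_eq_zero {F : X.Modules} {x : X} (h : x ∉ CohB1.support F) :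
    len (X.presheaf.stalk x) (F.presheaf.stalk x) = 0 := by
  haveI : Subsingleton (F.presheaf.stalk x) := not_not.1 h
  simp [len, Module.length_eq_zero]

/-- The classes supported in codimension at least two. -/
def coniveau2 (X : Scheme.{u}) : AddSubgroup (SGA6.Kcoh X) :=
  AddSubgroup.closure {c : SGA6.Kcoh X | ∃ F : X.Modules, Coh.IsCoh F ∧
    (∀ x ∈ CohB1.support F, (2 : WithBot ℕ∞) ≤ ringKrullDim (X.presheaf.stalk x)) ∧
    c = KZero.clSub (fun M : X.Modules => Coh.IsCoh M) F}

theorem genericPoint_notMem {F : X.Modules} (h : ∀ x ∈ CohB1.support F, (1 : WithBot ℕ∞) ≤ ringKrullDim (X.presheaf.stalk x)) :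
    genericPoint X ∉ CohB1.support F := fun hη => by
  have h1 := h _ hη
  rw [ringKrullDim_eq_zero_of_isField isField_η] at h1
  exact absurd h1 (by decide)

theorem phi_coniveau2 {F : X.Modules} (hF : Coh.IsCoh F)
    (h : ∀ x ∈ CohB1.support F, (2 : WithBot ℕ∞) ≤ ringKrullDim (X.presheaf.stalk x)) : phi hF = 0 := by
  rw [phi_torsion hF (genericPoint_notMem fun x hx => le_trans (by decide) (h x hx))]
  refine (QuotientAddGroup.eq_zero_iff _).2 ?_
  convert AddSubgroup.zero_mem (prin X) using 1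
  funext x
  refine len_eq_zero fun hx => ?_
  have := h _ hx
  rw [x.2] at this
  exact absurd this (by decide)

theorem phi_ptMod (y : C1 X) :
    phi (NumPoly18.isCoh_ptMod y.1) = QuotientAddGroup.mk (Pi.single y 1) := by
  have hη : genericPoint X ∉ CohB1.support (NumPoly18.ptMod y.1) := fun h => by
    have h2 : y.1 ⤳ genericPoint X := specializes_iff_mem_closure.2 (NumPoly18.support_ptMod y.1 h)
    exact ne_genericPoint_of_coheight_one (co y) (h2.antisymm (gsp y.1)).eq
  rw [phi_torsion _ hη]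
  congr 1
  funext x
  by_cases h : x = y
  · subst h
    rw [Pi.single_eq_same]
    have := NumPoly18.lenAt_ptMod_self x.1
    simp only [NumPoly18.lenAt] at this
    simp only [len]
    exact_mod_cast this
  · rw [Pi.single_eq_of_ne h]
    refine len_eq_zero fun hx => h (Subtype.ext ?_)
    exact (eq_of_coheight_one (specializes_iff_mem_closure.2 (NumPoly18.support_ptMod y.1 hx)) (co y) (co x)).symm

/-- The class of the divisor. -/
def divCl (D : X →₀ ℤ) : SGA6.Kcoh X :=
  D.sum fun x n => n • KZero.clSub (fun M : X.Modules => Coh.IsCoh M) (Cyc.closureStructureSheaf x)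

theorem principal_of_mem (D : X →₀ ℤ) (hD : ∀ x ∈ D.support, ringKrullDim (X.presheaf.stalk x) = 1)
    (h : divCl D ∈ coniveau2 X) : ∃ f : X.functionField, f ≠ 0 ∧ ∀ x : C1 X, D x.1 = Scheme.ord f x.1 := by
  obtain ⟨Φ, hΦ⟩ := exists_phi (X := X)
  have hker : Φ (divCl D) = 0 := by
    suffices coniveau2 X ≤ Φ.ker from this h
    refine (AddSubgroup.closure_le _).2 ?_
    rintro _ ⟨F, hF, hs, rfl⟩
    show Φ (KCoh4.kc F) = 0
    rw [hΦ F hF, phi_coniveau2 hF hs]
  have hval : Φ (divCl D) = QuotientAddGroup.mk fun x : C1 X => D x.1 := by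
    have hd : (fun x : C1 X => D x.1) = ∑ y ∈ D.support.attach, D y.1 • (Pi.single ⟨y.1, hD y.1 y.2⟩ 1 : C1 X → ℤ) := by
      funext x
      rw [Finset.sum_apply]
      simp only [Pi.smul_apply, Pi.single_apply, smul_eq_mul, mul_ite, mul_one, mul_zero, Subtype.ext_iff]
      by_cases hx : x.1 ∈ D.support
      · rw [Finset.sum_eq_single ⟨x.1, hx⟩]
        · simp
        · exact fun b _ hb => if_neg fun e => hb (Subtype.ext e.symm)
        · exact fun hh => absurd (Finset.mem_attach _ _) hh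
      · rw [Finset.sum_eq_zero fun b _ => if_neg fun e : x.1 = b.1 => hx (by rw [e]; exact b.2),
          Finsupp.notMem_support_iff.1 hx]
    rw [hd, divCl, Finsupp.sum, map_sum, ← Finset.sum_attach]
    rw [show (QuotientAddGroup.mk (∑ y ∈ D.support.attach, D y.1 • (Pi.single ⟨y.1, hD y.1 y.2⟩ 1 : C1 X → ℤ)) :
        (C1 X → ℤ) ⧸ prin X) = ∑ y ∈ D.support.attach,
          QuotientAddGroup.mk (D y.1 • (Pi.single ⟨y.1, hD y.1 y.2⟩ 1 : C1 X → ℤ)) from map_sum (QuotientAddGroup.mk' (prin X)) _ _]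
    refine Finset.sum_congr rfl fun y _ => ?_
    rw [map_zsmul, ← KCoh4.ptMod_eq]
    show D y.1 • Φ (KCoh4.kc (NumPoly18.ptMod y.1)) = _
    rw [hΦ _ (NumPoly18.isCoh_ptMod y.1), phi_ptMod ⟨y.1, hD y.1 y.2⟩]
    rfl
  rw [hval, QuotientAddGroup.eq_zero_iff] at hker
  exact hker

end Groth.Agent.DetDiv26
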